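import Groth.Agent.TriCat.SeqColimit
import Groth.Agent.TriCat.AcyclicObj
import Groth.Agent.TriCat.KInjRes
import Groth.Agent.TriCat.DerivedOfAdjunction
import Groth.Agent.H9Misc.GPDerived
import Groth.Agent.H9Misc.BrownGroth
import Groth.Agent.KFlatLib.Scheme.Coproducts
import Groth.Agent.KFlatLib.BrutalTrunc
import Groth.Agent.RepTop7.Coprod
import Mathlib.CategoryTheory.Triangulated.Adjunction
import Mathlib.Algebra.Category.Grp.AB

/-!
# Unbounded complexes of acyclic objects, for a derived functor preserving countable sums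
-/

set_option autoImplicit false
set_option linter.style.haveILetI false
set_option backward.isDefEq.respectTransparency false
set_option backward.isDefEq.respectTransparency.types false

universe w w' v u v' u'

open CategoryTheory CategoryTheory.Limits Pretriangulated

noncomputable section

namespace Groth.Agent.AcycUnbdd7

open Groth.Agent.KFlatLib (sigmaGEι isZero_stupidTrunc_of_lt isIso_sigmaGEι_f sigmaSES sigmaSES_shortExact isStrictlyLE_sigmaSES_X₃)

section Trunc

variable {A : Type u} [Category.{v} A] [Abelian A] (K : CochainComplex A ℤ)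

/-- The brutal truncation in degrees at least `-n`. -/
abbrev sig (n : ℕ) : CochainComplex A ℤ := K.stupidTrunc (ComplexShape.embeddingUpIntGE (-(n : ℤ)))

lemma sigι_comp_π (n : ℕ) :
    sigmaGEι K (-(n : ℤ)) ≫ cokernel.π (sigmaGEι K (-((n + 1 : ℕ) : ℤ))) = 0 := by
  refine HomologicalComplex.hom_ext _ _ fun i => ?_
  rcases lt_or_ge i (-(n : ℤ)) with h | h
  · exact (isZero_stupidTrunc_of_lt K _ i h).eq_of_src _ _
  · haveI := isStrictlyLE_sigmaSES_X₃ K (-((n + 1 : ℕ) : ℤ))
    exact (CochainComplex.isZero_of_isStrictlyLE (sigmaSES K (-((n + 1 : ℕ) : ℤ))).X₃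
      (-((n + 1 : ℕ) : ℤ) - 1) i (by push_cast; omega)).eq_of_tgt _ _

/-- The transition maps. -/
def sigMap (n : ℕ) : sig K n ⟶ sig K (n + 1) :=
  (sigmaSES_shortExact K _).fIsKernel.lift (KernelFork.ofι _ (sigι_comp_π K n))

lemma sigMap_ι (n : ℕ) : sigMap K n ≫ sigmaGEι K (-((n + 1 : ℕ) : ℤ)) = sigmaGEι K (-(n : ℤ)) :=
  Fork.IsLimit.lift_ι (sigmaSES_shortExact K _).fIsKernel

/-- The system of brutal truncations. -/
def sigF : ℕ ⥤ CochainComplex A ℤ := Functor.ofSequence (sigMap K)

/-- Its cocone. -/
def sigCocone : Cocone (sigF K) where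
  pt := K
  ι := NatTrans.ofSequence (fun n => sigmaGEι K (-(n : ℤ))) fun n => by
    erw [Functor.ofSequence_map_homOfLE_succ]
    exact (sigMap_ι K n).trans (Category.comp_id _).symm

lemma nonempty_isColimit_sigCocone : Nonempty (IsColimit (sigCocone K)) := by
  refine ⟨HomologicalComplex.isColimitOfEval _ _ fun i => ?_⟩
  let E := HomologicalComplex.eval A (ComplexShape.up ℤ) i
  let N := (-i).toNat
  have hN : ∀ n, N ≤ n → IsIso ((E.mapCocone (sigCocone K)).ι.app n) := fun n hn =>
    isIso_sigmaGEι_f K _ i (by omega)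
  haveI := hN N le_rfl
  exact
    { desc := fun s => inv ((E.mapCocone (sigCocone K)).ι.app N) ≫ s.ι.app N
      fac := fun s n => by
        let m := max n N
        haveI := hN m (le_max_right _ _)
        have hw : s.ι.app N = (E.mapCocone (sigCocone K)).ι.app N ≫
            inv ((E.mapCocone (sigCocone K)).ι.app m) ≫ s.ι.app m := by
          rw [← (E.mapCocone (sigCocone K)).w (homOfLE (le_max_right n N)), Category.assoc,
            IsIso.hom_inv_id_assoc, s.w]
        rw [hw, IsIso.inv_hom_id_assoc, ← (E.mapCocone (sigCocone K)).w (homOfLE (le_max_left n N)),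
          Category.assoc, IsIso.hom_inv_id_assoc, s.w]
      uniq := fun s m hm => by rw [IsIso.eq_inv_comp, hm] }

end Trunc

section Unit

variable {A : Type u} [Category.{v} A] [Abelian A] [IsGrothendieckAbelian.{v} A] [HasDerivedCategory.{w} A]
  {B : Type u'} [Category.{v'} B] [Abelian B] [HasDerivedCategory.{w'} B]
  (F : A ⥤ B) [F.Additive] [PreservesFiniteLimits F]
  {ρ : DerivedCategory A ⥤ HomotopyCategory A (ComplexShape.up ℤ)} (adj : DerivedCategory.Qh (C := A) ⊣ ρ)

/-- `F` on the homotopy category. -/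
abbrev FQ : HomotopyCategory A (ComplexShape.up ℤ) ⥤ DerivedCategory B :=
  F.mapHomotopyCategory (ComplexShape.up ℤ) ⋙ DerivedCategory.Qh

/-- The comparison map computed through K-injective resolutions. -/
abbrev cmp (K : CochainComplex A ℤ) :
    (FQ F).obj ((HomotopyCategory.quotient A _).obj K) ⟶
      (FQ F).obj (ρ.obj (DerivedCategory.Qh.obj ((HomotopyCategory.quotient A _).obj K))) :=
  (FQ F).map (adj.unit.app _)

lemma cmp_of_quasiIso {K L : CochainComplex A ℤ} (s : K ⟶ L) [QuasiIso s]
    [QuasiIso ((F.mapHomologicalComplex (ComplexShape.up ℤ)).map s)] (h : IsIso (cmp F adj K)) :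
    IsIso (cmp F adj L) := by
  let q := (HomotopyCategory.quotient A (ComplexShape.up ℤ)).map s
  haveI h2 : IsIso (DerivedCategory.Qh.map q) :=
    (NatIso.isIso_map_iff (DerivedCategory.quotientCompQhIso A) s).2 inferInstance
  haveI h1 : IsIso ((FQ F).map q) := by
    refine (NatIso.isIso_map_iff ((Functor.associator _ _ _).symm ≪≫
      Functor.isoWhiskerRight (F.mapHomotopyCategoryFactors (ComplexShape.up ℤ)) DerivedCategory.Qh ≪≫
      Functor.associator _ _ _ ≪≫ Functor.isoWhiskerLeft _ (DerivedCategory.quotientCompQhIso B)) s).2 ?_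
    exact inferInstanceAs (IsIso (DerivedCategory.Q.map ((F.mapHomologicalComplex (ComplexShape.up ℤ)).map s)))
  have w : (FQ F).map q ≫ cmp F adj L =
      cmp F adj K ≫ (ρ ⋙ FQ F).map (DerivedCategory.Qh.map q) := by
    rw [cmp, cmp]
    exact ((FQ F).map_comp _ _).symm.trans ((congrArg (FQ F).map (adj.unit.naturality q)).trans ((FQ F).map_comp _ _))
  haveI := h
  have h4 : IsIso ((FQ F).map q ≫ cmp F adj L) := by rw [w]; infer_instance
  exact IsIso.of_isIso_comp_left ((FQ F).map q) _

lemma cmp_of_isStrictlyGE (K : CochainComplex A ℤ) (a : ℤ) [K.IsStrictlyGE a]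
    (hK : ∀ n, TriCat.IsRightAcyclic F (K.X n)) : IsIso (cmp F adj K) := by
  haveI : EnoughInjectives A := inferInstance
  obtain ⟨I, s, hI, hinj, hm, hs⟩ := TriCat.exists_quasiIso_resolution (A := A) Injective
    ⟨_, isZero_zero A, IsZero.injective (isZero_zero A)⟩
    (fun M => ⟨Injective.under M, Injective.ι M, inferInstance, inferInstance⟩) K a
  haveI := hI
  haveI := hinj
  haveI := hs
  haveI : I.IsKInjective := CochainComplex.isKInjective_of_injective _ a
  haveI := TriCat.quasiIso_map_of_adapted (TriCat.isAdapted_isRightAcyclic (F := F)) s hm a hK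
    (fun n => TriCat.isRightAcyclic_of_injective _)
  haveI := TriCat.isIso_unit_of_isKInjective adj I
  let q := (HomotopyCategory.quotient A (ComplexShape.up ℤ)).map s
  haveI h2 : IsIso (DerivedCategory.Qh.map q) :=
    (NatIso.isIso_map_iff (DerivedCategory.quotientCompQhIso A) s).2 inferInstance
  haveI h1 : IsIso ((FQ F).map q) := by
    refine (NatIso.isIso_map_iff ((Functor.associator _ _ _).symm ≪≫
      Functor.isoWhiskerRight (F.mapHomotopyCategoryFactors (ComplexShape.up ℤ)) DerivedCategory.Qh ≪≫
      Functor.associator _ _ _ ≪≫ Functor.isoWhiskerLeft _ (DerivedCategory.quotientCompQhIso B)) s).2 ?_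
    exact inferInstanceAs (IsIso (DerivedCategory.Q.map ((F.mapHomologicalComplex (ComplexShape.up ℤ)).map s)))
  have w : (FQ F).map q ≫ cmp F adj I =
      cmp F adj K ≫ (ρ ⋙ FQ F).map (DerivedCategory.Qh.map q) := by
    rw [cmp, cmp]
    exact ((FQ F).map_comp _ _).symm.trans ((congrArg (FQ F).map (adj.unit.naturality q)).trans ((FQ F).map_comp _ _))
  have h3 : IsIso (cmp F adj I) :=
    @Functor.map_isIso _ _ _ _ _ _ (FQ F) _ (TriCat.isIso_unit_of_isKInjective adj I)
  have h4 : IsIso (cmp F adj K ≫ (ρ ⋙ FQ F).map (DerivedCategory.Qh.map q)) := by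
    rw [← w]; exact IsIso.comp_isIso' h1 h3
  exact IsIso.of_isIso_comp_right _ ((ρ ⋙ FQ F).map (DerivedCategory.Qh.map q))

lemma cmp_mappingCone {K L : CochainComplex A ℤ} (φ : K ⟶ L) (hK : IsIso (cmp F adj K))
    (hL : IsIso (cmp F adj L)) : IsIso (cmp F adj (CochainComplex.mappingCone φ)) := by
  letI := adj.rightAdjointCommShift ℤ
  haveI : adj.CommShift ℤ := adj.commShift_of_leftAdjoint ℤ
  haveI := adj.isTriangulated_rightAdjoint
  let T := CochainComplex.mappingCone.triangleh φ
  have hT := HomotopyCategory.mappingCone_triangleh_distinguished φ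
  let R := (DerivedCategory.Qh (C := A) ⋙ ρ) ⋙ FQ F
  let L' := 𝟭 (HomotopyCategory A (ComplexShape.up ℤ)) ⋙ FQ F
  let η : L' ⟶ R := Functor.whiskerRight adj.unit (FQ F)
  haveI : NatTrans.CommShift η ℤ := NatTrans.CommShift.whiskerRight adj.unit (FQ F) ℤ
  let m : L'.mapTriangle.obj T ⟶ R.mapTriangle.obj T :=
    Triangle.homMk _ _ (η.app _) (η.app _) (η.app _) (η.naturality _).symm.symm (η.naturality _).symm.symm (by
      show (L'.map T.mor₃ ≫ (L'.commShiftIso (1 : ℤ)).hom.app T.obj₁) ≫ (η.app T.obj₁)⟦(1 : ℤ)⟧' =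
        η.app T.obj₃ ≫ R.map T.mor₃ ≫ (R.commShiftIso (1 : ℤ)).hom.app T.obj₁
      rw [Category.assoc, ← η.naturality_assoc, NatTrans.shift_app_comm])
  exact isIso₃_of_isIso₁₂ m (L'.map_distinguished _ hT) (R.map_distinguished _ hT) hK hL

lemma cmp_sigma (X : ℕ → CochainComplex A ℤ) [HasColimitsOfShape (Discrete ℕ) B]
    [HasExactColimitsOfShape (Discrete ℕ) B] [PreservesColimitsOfShape (Discrete ℕ) F]
    [HasColimitsOfShape (Discrete ℕ) A] [HasExactColimitsOfShape (Discrete ℕ) A]
    [PreservesColimitsOfShape (Discrete ℕ) (ρ ⋙ FQ F)]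
    (h : ∀ n, IsIso (cmp F adj (X n))) : IsIso (cmp F adj (∐ X)) := by
  let P := F.mapHomologicalComplex (ComplexShape.up ℤ)
  let e : HomotopyCategory.quotient A (ComplexShape.up ℤ) ⋙ FQ F ≅ P ⋙ DerivedCategory.Q :=
    (Functor.associator _ _ _).symm ≪≫
      Functor.isoWhiskerRight (F.mapHomotopyCategoryFactors (ComplexShape.up ℤ)) DerivedCategory.Qh ≪≫
      Functor.associator _ _ _ ≪≫ Functor.isoWhiskerLeft _ (DerivedCategory.quotientCompQhIso B)
  let G := ρ ⋙ FQ F
  let S := HomotopyCategory.quotient A (ComplexShape.up ℤ) ⋙ FQ F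
  let S' := HomotopyCategory.quotient A (ComplexShape.up ℤ) ⋙ DerivedCategory.Qh ⋙ G
  let η : S ⟶ S' := Functor.whiskerLeft _ (Functor.whiskerRight adj.unit (FQ F))
  let c : Cofan X := Cofan.mk (∐ X) (Sigma.ι X)
  have hc : IsColimit c := coproductIsCoproduct X
  haveI : PreservesColimit (Discrete.functor X) P :=
    preservesColimit_of_preserves_colimit_cocone hc
      (HomologicalComplex.isColimitOfEval _ _ fun i =>
        isColimitOfPreserves (HomologicalComplex.eval A (ComplexShape.up ℤ) i ⋙ F) hc)
  have hS : IsColimit (S.mapCocone c) := by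
    haveI := H9Misc.BrownGroth.preservesColimit_Q fun n => P.obj (X n)
    haveI : PreservesColimit (Discrete.functor X ⋙ P) (DerivedCategory.Q : CochainComplex B ℤ ⥤ _) :=
      preservesColimit_of_iso_diagram (K₁ := Discrete.functor fun n => P.obj (X n)) _
        (Discrete.natIso fun _ => Iso.refl _)
    haveI : PreservesColimit (Discrete.functor X) S := preservesColimit_of_natIso _ e.symm
    exact isColimitOfPreserves S hc
  have hS' : IsColimit (S'.mapCocone c) := by
    haveI := H9Misc.BrownGroth.preservesColimit_Q X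
    haveI : PreservesColimit (Discrete.functor X) (HomotopyCategory.quotient A (ComplexShape.up ℤ) ⋙ DerivedCategory.Qh) :=
      preservesColimit_of_natIso _ (DerivedCategory.quotientCompQhIso A).symm
    haveI : PreservesColimit (Discrete.functor X) S' :=
      inferInstanceAs (PreservesColimit (Discrete.functor X)
        ((HomotopyCategory.quotient A (ComplexShape.up ℤ) ⋙ DerivedCategory.Qh) ⋙ G))
    exact isColimitOfPreserves S' hc
  let α := Functor.whiskerLeft (Discrete.functor X) η
  haveI : ∀ j, IsIso (α.app j) := fun j => h j.as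
  haveI : IsIso α := NatIso.isIso_of_isIso_app α
  have he : η.app (∐ X) = (IsColimit.coconePointsIsoOfNatIso hS hS' (asIso α)).hom :=
    hS.hom_ext fun j => by
      rw [IsColimit.comp_coconePointsIsoOfNatIso_hom]
      exact η.naturality (c.ι.app j)
  show IsIso (η.app (∐ X))
  rw [he]
  infer_instance

end Unit

/-- A complex of acyclic objects computes a derived functor commuting with countable sums. -/
theorem isIso_totalRightDerivedUnit {A : Type u} [Category.{v} A] [Abelian A] [IsGrothendieckAbelian.{v} A]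
    [HasDerivedCategory.{w} A] [HasDerivedCategory.{w'} AddCommGrpCat.{v}]
    (F : A ⥤ AddCommGrpCat.{v}) [F.Additive] [PreservesFiniteLimits F]
    (hcolim : ∀ (n : ℕ) (J : Type v) [SmallCategory J] [IsFiltered J], PreservesColimitsOfShape J (F.rightDerived n))
    [(F.mapHomotopyCategory (ComplexShape.up ℤ) ⋙ DerivedCategory.Qh).HasRightDerivedFunctor
      (HomotopyCategory.quasiIso A (ComplexShape.up ℤ))]
    [PreservesColimitsOfShape (Discrete ℕ) ((F.mapHomotopyCategory (ComplexShape.up ℤ) ⋙ DerivedCategory.Qh).totalRightDerived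
      DerivedCategory.Qh (HomotopyCategory.quasiIso A (ComplexShape.up ℤ)))]
    (K : CochainComplex A ℤ) (hK : ∀ (m : ℤ), TriCat.IsRightAcyclic F (K.X m)) :
    IsIso (((F.mapHomotopyCategory (ComplexShape.up ℤ) ⋙ DerivedCategory.Qh).totalRightDerivedUnit DerivedCategory.Qh
      (HomotopyCategory.quasiIso A (ComplexShape.up ℤ))).app ((HomotopyCategory.quotient A (ComplexShape.up ℤ)).obj K)) := by
  haveI := Groth.Agent.H9Misc.GPDerived.qh_isLeftAdjoint A
  let adj := Adjunction.ofIsLeftAdjoint (DerivedCategory.Qh (C := A))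
  let W := HomotopyCategory.quasiIso A (ComplexShape.up ℤ)
  haveI := TriCat.isRightDerivedFunctor_of_adjunction adj W (FQ F)
  let α := (FQ F).totalRightDerivedUnit DerivedCategory.Qh W
  let G := (DerivedCategory.Qh (C := A)).rightAdjoint ⋙ FQ F
  let e : G ≅ (FQ F).totalRightDerived DerivedCategory.Qh W :=
    Functor.rightDerivedUnique _ _ (Functor.whiskerRight adj.unit (FQ F)) α W
  haveI : PreservesColimitsOfShape (Discrete ℕ) G := preservesColimitsOfShape_of_natIso e.symm
  suffices h : IsIso (cmp F adj K) by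
    let qK := (HomotopyCategory.quotient A (ComplexShape.up ℤ)).obj K
    have : α.app qK = cmp F adj K ≫ e.hom.app (DerivedCategory.Qh.obj qK) :=
      ((Functor.rightDerivedNatTrans_app G ((FQ F).totalRightDerived DerivedCategory.Qh W)
        (Functor.whiskerRight adj.unit (FQ F)) α W (𝟙 _) qK).trans (Category.id_comp _)).symm
    change IsIso (α.app qK)
    rw [this]
    infer_instance
  have hfil : ∀ (n : ℕ) (J : Type) [SmallCategory J] [IsFiltered J],
      PreservesColimitsOfShape J (F.rightDerived n) := fun n J _ _ => by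
    haveI := hcolim n (AsSmall.{v} J)
    exact preservesColimitsOfShape_of_equiv (AsSmall.equiv.{_, _, v} (C := J)).symm _
  haveI : ∀ n : ℕ, PreservesColimitsOfShape (Discrete ℕ) (F.rightDerived n) := fun n => by
    haveI := hfil n (Finset (Discrete ℕ))
    exact RepTop7.preservesColimitsOfShape_discrete _ _
  haveI : PreservesColimitsOfShape ℕ F := by
    haveI := hfil 0 ℕ
    exact preservesColimitsOfShape_of_natIso F.rightDerivedZeroIsoSelf
  haveI : PreservesColimitsOfShape (Discrete ℕ) F :=
    preservesColimitsOfShape_of_natIso F.rightDerivedZeroIsoSelf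
  let S := sigF K
  let P := F.mapHomologicalComplex (ComplexShape.up ℤ)
  obtain ⟨hcol⟩ := nonempty_isColimit_sigCocone K
  have hac : ∀ n m, TriCat.IsRightAcyclic F ((S.obj n).X m) := fun n m i hi => by
    rcases lt_or_ge m (-(n : ℤ)) with h | h
    · exact (F.rightDerived i).map_isZero (isZero_stupidTrunc_of_lt K _ m h)
    · haveI := isIso_sigmaGEι_f K (-(n : ℤ)) m h
      exact (hK m i hi).of_iso ((F.rightDerived i).mapIso (asIso ((sigmaGEι K (-(n : ℤ))).f m)))
  haveI : HasColimitsOfShape (Discrete ℕ) A := inferInstance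
  have hT : IsIso (cmp F adj (∐ S.obj)) := cmp_sigma F adj S.obj fun n => by
    haveI : CochainComplex.IsStrictlyGE (S.obj n) (-(n : ℤ)) :=
      (CochainComplex.isStrictlyGE_iff _ _).2 fun i hi => isZero_stupidTrunc_of_lt K _ i hi
    exact cmp_of_isStrictlyGE F adj _ (-(n : ℤ)) (hac n)
  let Z := ShortComplex.mk _ _ (TriCat.telescope_comp_desc S)
  have hZ : Z.ShortExact := TriCat.telescope_shortExact S
  let eK : Z.X₃ ≅ K := (colimit.isColimit S).coconePointUniqueUpToIso hcol
  have hac₁ : ∀ m, TriCat.IsRightAcyclic F (Z.X₁.X m) := fun m i hi => by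
    haveI : PreservesColimit (Discrete.functor S.obj) (HomologicalComplex.eval A (ComplexShape.up ℤ) m ⋙ F.rightDerived i) :=
      inferInstance
    have hc := isColimitOfPreserves (HomologicalComplex.eval A (ComplexShape.up ℤ) m ⋙ F.rightDerived i)
      (coproductIsCoproduct S.obj)
    exact (IsZero.iff_id_eq_zero _).2 (hc.hom_ext fun j => (hac j.as m i hi).eq_of_src _ _)
  have hFZ : (Z.map P).ShortExact :=
    HomologicalComplex.shortExact_of_degreewise_shortExact _ fun m =>
      (TriCat.isAdapted_isRightAcyclic (F := F)).map_shortExact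
        (hZ.map_of_exact (HomologicalComplex.eval A (ComplexShape.up ℤ) m)) (hac₁ m) (hac₁ m)
  let φ := Z.f
  let s := CochainComplex.mappingCone.descShortComplex Z ≫ eK.hom
  haveI : QuasiIso (CochainComplex.mappingCone.descShortComplex Z) :=
    CochainComplex.mappingCone.quasiIso_descShortComplex hZ
  haveI : QuasiIso s := inferInstanceAs (QuasiIso (_ ≫ _))
  haveI : QuasiIso (P.map (CochainComplex.mappingCone.descShortComplex Z)) := by
    haveI := CochainComplex.mappingCone.quasiIso_descShortComplex hFZ
    haveI : QuasiIso ((CochainComplex.mappingCone.mapHomologicalComplexIso Z.f F).hom ≫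
        CochainComplex.mappingCone.descShortComplex (Z.map P)) := inferInstance
    refine (?_ : _ = P.map (CochainComplex.mappingCone.descShortComplex Z)) ▸ this
    rw [← Iso.eq_inv_comp]
    symm
    refine HomologicalComplex.hom_ext _ _ fun m => ?_
    refine CochainComplex.mappingCone.ext_from (P.map Z.f) (m + 1) m rfl ?_ ?_
    · simp only [HomologicalComplex.comp_f, CochainComplex.mappingCone.mapHomologicalComplexIso,
        HomologicalComplex.Hom.isoOfComponents_inv_f, P]
      rw [CochainComplex.mappingCone.mapHomologicalComplexXIso_eq Z.f F m (m + 1) rfl]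
      simp [CochainComplex.mappingCone.mapHomologicalComplexXIso', ← Functor.map_comp]
      exact (CochainComplex.mappingCone.inl_v_descShortComplex_f (Z.map P) (m + 1) m (by omega)).symm
    · simp only [HomologicalComplex.comp_f, CochainComplex.mappingCone.mapHomologicalComplexIso,
        HomologicalComplex.Hom.isoOfComponents_inv_f, P]
      rw [CochainComplex.mappingCone.mapHomologicalComplexXIso_eq Z.f F m (m + 1) rfl]
      simp [CochainComplex.mappingCone.mapHomologicalComplexXIso', ← Functor.map_comp]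
      exact (CochainComplex.mappingCone.inr_f_descShortComplex_f (Z.map P) m).symm
  haveI : QuasiIso (P.map s) := by
    rw [Functor.map_comp]
    infer_instance
  exact cmp_of_quasiIso F adj s (cmp_mappingCone F adj φ hT hT)

end Groth.Agent.AcycUnbdd7
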